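import Cfsg.Agent.M12Eight.Model

/-!
Elementary facts on the table functions, for all parameters.
-/

set_option autoImplicit false

namespace Cfsg.Agent.M12Eight

theorem mN_lt (ep u v : ℕ) : mN ep u v < 32 := by
  simp only [mN]
  omega

theorem pwN_lt (ep g : ℕ) : ∀ n, pwN ep g n < 32
  | 0 => by simp [pwN]
  | n + 1 => mN_lt _ _ _

namespace Par

variable (p : Par)

theorem sig_lt (u : ℕ) : p.sig u < 32 := mN_lt _ _ _

theorem mul_lt (a b : ℕ) : p.mul a b < 64 := by
  have hw : ∀ x y, mN p.ep x y < 32 := mN_lt p.ep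
  simp only [Par.mul]
  split_ifs with h1 h2 <;>
    · have := hw (a % 32) (b % 32)
      have := hw (a % 32) (p.sig (b % 32))
      have := hw (mN p.ep (a % 32) (b % 32)) p.n0
      have := hw (mN p.ep (a % 32) (p.sig (b % 32))) p.n0
      omega

theorem mm_val (a b : Fin 64) : (p.mm a b).1 = p.mul a.1 b.1 := by
  show p.mul a.1 b.1 % 64 = _
  exact Nat.mod_eq_of_lt (p.mul_lt _ _)

theorem mul_zero_zero : p.mul 0 0 = 0 := by simp [Par.mul, mN]

end Par

end Cfsg.Agent.M12Eight
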