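import Cfsg.Agent.M12Eight.Model

/-!
The finite checks, by evaluation.
-/

set_option autoImplicit false
set_option maxRecDepth 20000
set_option maxHeartbeats 1000000
set_option synthInstance.maxSize 2000
set_option synthInstance.maxHeartbeats 200000

namespace Cfsg.Agent.M12Eight

open M12Type

/-- The parameters with a certificate. -/
def others : List Par := [
  ⟨0, 3, 1, 16⟩, ⟨0, 3, 17, 9⟩, ⟨0, 3, 17, 25⟩, ⟨0, 11, 1, 0⟩, ⟨0, 11, 1, 16⟩, ⟨0, 11, 17, 9⟩,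
  ⟨0, 19, 1, 16⟩, ⟨0, 19, 17, 9⟩, ⟨0, 19, 17, 25⟩, ⟨0, 27, 1, 0⟩, ⟨0, 27, 1, 16⟩, ⟨0, 27, 17, 9⟩,
  ⟨1, 3, 1, 0⟩, ⟨1, 3, 1, 16⟩, ⟨1, 3, 17, 9⟩, ⟨1, 3, 17, 25⟩, ⟨1, 11, 1, 0⟩, ⟨1, 11, 1, 16⟩,
  ⟨1, 11, 17, 9⟩, ⟨1, 11, 17, 25⟩, ⟨1, 19, 1, 0⟩, ⟨1, 19, 1, 16⟩, ⟨1, 19, 17, 9⟩, ⟨1, 19, 17, 25⟩,
  ⟨1, 27, 1, 0⟩, ⟨1, 27, 1, 16⟩, ⟨1, 27, 17, 9⟩, ⟨1, 27, 17, 25⟩]

/-- The parameters as a tuple, for comparison. -/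
def Par.code (p : Par) : List ℕ := [p.ep, p.sx, p.sw, p.n0]

theorem valid_mem : ∀ ep : Fin 2, ∀ sx : Fin 32,
    mN ep.1 sx.1 sx.1 = pwN ep.1 5 (4 * ep.1) ∧
      mN ep.1 sx.1 5 = mN ep.1 (pwN ep.1 5 7) sx.1 → ∀ sw : Fin 32,
    mN ep.1 sw.1 sw.1 = 0 ∧ mN ep.1 sw.1 5 = mN ep.1 (pwN ep.1 5 5) sw.1 ∧
      mN ep.1 sx.1 sw.1 = mN ep.1 sw.1 sx.1 → ∀ n0 : Fin 32,
    (Par.mk ep.1 sx.1 sw.1 n0.1).sig n0.1 = n0.1 ∧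
      ([4, 2, 1].all fun g => decide (mN ep.1 ((Par.mk ep.1 sx.1 sw.1 n0.1).sig
        ((Par.mk ep.1 sx.1 sw.1 n0.1).sig g)) n0.1 = mN ep.1 n0.1 g)) = true →
    [ep.1, sx.1, sw.1, n0.1] ∈ (imgs.map fun q => q.1.code) ++ others.map Par.code := by
  decide +kernel

theorem others_cert : others.all Par.cert = true := by decide +kernel

theorem toSM_mul : ∀ q ∈ imgs, ∀ a b : Fin 64,
    toSM q.2 (q.1.mm a b) = toSM q.2 a * toSM q.2 b := by decide +kernel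

theorem toSM_inj : ∀ q ∈ imgs, ∀ a : Fin 64, toSM q.2 a = 1 → a = 0 := by decide +kernel

end Cfsg.Agent.M12Eight
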