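import Cfsg.Agent.M12Eight.Bounds
import Cfsg.Agent.M12Eight.Checks
import Cfsg.Agent.Invol.ZStar

/-!
A certified group of order 64 is not a Sylow 2-subgroup of a simple group: its central involution
is isolated.
-/

set_option autoImplicit false
set_option linter.style.haveILetI false
set_option linter.unusedSectionVars false

namespace Cfsg.Agent.M12Eight

open Subgroup

/-- A Sylow 2-subgroup described by a table. -/
structure Rep {G : Type*} [Group G] (p : Par) (P : Sylow 2 G) where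
  /-- the elements -/
  φ : Fin 64 → G
  inj : Function.Injective φ
  mem : ∀ a, φ a ∈ (P : Subgroup G)
  surj : ∀ g ∈ (P : Subgroup G), ∃ a, φ a = g
  mul : ∀ a b, φ (p.mm a b) = φ a * φ b

section

variable {G : Type*} [Group G] [Finite G]

/-- A 2-subgroup of a subgroup containing the Sylow subgroup moves into the Sylow subgroup. -/
theorem conj_into (P : Sylow 2 G) {C T : Subgroup G} (hP : (P : Subgroup G) ≤ C) (hT : IsPGroup 2 T)
    (hTC : T ≤ C) : ∃ c ∈ C, ∀ x ∈ T, c * x * c⁻¹ ∈ (P : Subgroup G) := by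
  haveI : Fact (Nat.Prime 2) := ⟨Nat.prime_two⟩
  let P' : Sylow 2 C := P.subtype hP
  obtain ⟨Q, hQ⟩ := (hT.comap_subtype (H := T) (K := C)).exists_le_sylow
  obtain ⟨c, hc⟩ := MulAction.exists_smul_eq C Q P'
  refine ⟨c, c.2, fun x hx => ?_⟩
  have h : c * ⟨x, hTC hx⟩ * c⁻¹ ∈ (P' : Subgroup C) := by
    rw [← hc, Sylow.coe_subgroup_smul]
    exact smul_mem_pointwise_smul _ (MulAut.conj c) _ (hQ (show (⟨x, hTC hx⟩ : C) ∈ T.subgroupOf C
      from hx))
  rw [Sylow.coe_subtype] at h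
  exact mem_subgroupOf.1 h

theorem card_centralizer_conj {u : G} (g : G) :
    Nat.card (centralizer ({u} : Set G)) = Nat.card (centralizer ({g * u * g⁻¹} : Set G)) := by
  refine Nat.card_congr ((MulAut.conj g).toEquiv.subtypeEquiv fun x => ?_)
  rw [mem_centralizer_singleton_iff, mem_centralizer_singleton_iff]
  show x * u = u * x ↔ g * x * g⁻¹ * (g * u * g⁻¹) = g * u * g⁻¹ * (g * x * g⁻¹)
  rw [show g * x * g⁻¹ * (g * u * g⁻¹) = g * (x * u) * g⁻¹ by group,
    show g * u * g⁻¹ * (g * x * g⁻¹) = g * (u * x) * g⁻¹ by group, mul_left_inj, mul_right_inj]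

/-- A 2-subgroup of index at least two in a Sylow subgroup of an overgroup grows in it. -/
theorem grow {u : G} {T : Subgroup G} {n : ℕ} (hT : Nat.card T = 2 ^ n)
    (hTu : T ≤ centralizer ({u} : Set G))
    (hdvd : 2 ^ (n + 1) ∣ Nat.card (centralizer ({u} : Set G))) :
    ∃ K : Subgroup G, K ≤ centralizer ({u} : Set G) ∧ Nat.card K = 2 ^ (n + 1) ∧ T ≤ K ∧
      ∀ k ∈ K, ∀ x ∈ T, k * x * k⁻¹ ∈ T := by
  haveI : Fact (Nat.Prime 2) := ⟨Nat.prime_two⟩
  set C := centralizer ({u} : Set G)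
  have hH : Nat.card (T.subgroupOf C) = 2 ^ n := by
    rw [← hT, Nat.card_congr (subgroupOfEquivOfLe hTu).toEquiv]
  obtain ⟨K, hK, hle⟩ := Sylow.exists_subgroup_card_pow_succ hdvd hH
  have hi : ((T.subgroupOf C).subgroupOf K).index = 2 := by
    have h1 := ((T.subgroupOf C).subgroupOf K).card_mul_index
    rw [Nat.card_congr (subgroupOfEquivOfLe hle).toEquiv, hH, hK, pow_succ] at h1
    exact Nat.eq_of_mul_eq_mul_left (by positivity) h1
  have hN := normal_of_index_eq_two hi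
  refine ⟨K.map C.subtype, map_subtype_le _, by rw [card_map_of_injective C.subtype_injective, hK],
    fun x hx => ⟨⟨x, hTu hx⟩, hle hx, rfl⟩, ?_⟩
  rintro _ ⟨k, hk, rfl⟩ x hx
  exact hN.conj_mem (⟨⟨x, hTu hx⟩, hle hx⟩ : K) hx ⟨k, hk⟩

end

namespace Rep

variable {G : Type*} [Group G] {p : Par} {P : Sylow 2 G} (R : Rep p P)

/-- The element with the given index. -/
def el (n : ℕ) : G := R.φ ⟨n % 64, Nat.mod_lt _ (by norm_num)⟩

theorem el_val (a : Fin 64) : R.el a.1 = R.φ a :=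
  congrArg R.φ (Fin.ext (Nat.mod_eq_of_lt a.2))

theorem el_mem (n : ℕ) : R.el n ∈ (P : Subgroup G) := R.mem _

theorem exists_el {g : G} (hg : g ∈ (P : Subgroup G)) : ∃ n < 64, R.el n = g := by
  obtain ⟨a, rfl⟩ := R.surj g hg
  exact ⟨a.1, a.2, R.el_val a⟩

theorem el_inj {a b : ℕ} (ha : a < 64) (hb : b < 64) : R.el a = R.el b ↔ a = b := by
  refine ⟨fun h => ?_, fun h => h ▸ rfl⟩
  have := congrArg Fin.val (R.inj h)
  simpa [Nat.mod_eq_of_lt ha, Nat.mod_eq_of_lt hb] using this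

theorem el_mul {a b : ℕ} (ha : a < 64) (hb : b < 64) : R.el (p.mul a b) = R.el a * R.el b := by
  rw [R.el_val ⟨a, ha⟩, R.el_val ⟨b, hb⟩, ← R.mul, ← R.el_val, p.mm_val]

theorem el_zero : R.el 0 = 1 := by
  have h := R.el_mul (a := 0) (b := 0) (by norm_num) (by norm_num)
  rw [p.mul_zero_zero] at h
  exact (mul_eq_left.1 h.symm)

theorem eq_one {a : ℕ} (ha : a < 64) : R.el a = 1 ↔ a = 0 := by
  rw [← R.el_zero, R.el_inj ha (by norm_num)]

theorem el_sq {a : ℕ} (ha : a < 64) : R.el (p.mul a a) = R.el a * R.el a := R.el_mul ha ha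

theorem cm_iff {a b : ℕ} (ha : a < 64) (hb : b < 64) :
    p.cm a b = true ↔ R.el a * R.el b = R.el b * R.el a := by
  rw [Par.cm, ← R.el_mul ha hb, ← R.el_mul hb ha, R.el_inj (p.mul_lt _ _) (p.mul_lt _ _)]
  exact ⟨Nat.eq_of_beq_eq_true, fun h => by rw [h]; exact Nat.beq_refl _⟩

theorem beq_iff {a b : ℕ} (ha : a < 64) (hb : b < 64) : Nat.beq a b = true ↔ R.el a = R.el b := by
  rw [R.el_inj ha hb]
  exact ⟨Nat.eq_of_beq_eq_true, fun h => by rw [h]; exact Nat.beq_refl _⟩

/-- The central involution. -/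
def z : G := R.el 16

theorem card_cent {u : ℕ} (hu : u < 64) :
    Nat.card ↥((P : Subgroup G) ⊓ centralizer ({R.el u} : Set G)) = p.ccard u := by
  classical
  have e : ((List.range 64).filter (p.cm u)).toFinset = (Finset.range 64).filter fun a => p.cm u a = true := by
    ext a; simp
  rw [Par.ccard, ← List.toFinset_card_of_nodup (List.nodup_range.filter _), e,
    ← Nat.card_eq_finsetCard]
  let F : {a // a ∈ (Finset.range 64).filter fun a => p.cm u a = true} →
      ↥((P : Subgroup G) ⊓ centralizer ({R.el u} : Set G)) := fun a =>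
    ⟨R.el a.1, R.el_mem _, mem_centralizer_singleton_iff.2
      ((R.cm_iff hu (Finset.mem_range.1 (Finset.mem_filter.1 a.2).1)).1 (Finset.mem_filter.1 a.2).2).symm⟩
  refine (Nat.card_congr (Equiv.ofBijective F ⟨?_, ?_⟩)).symm
  · intro a b h
    exact Subtype.ext ((R.el_inj (Finset.mem_range.1 (Finset.mem_filter.1 a.2).1)
      (Finset.mem_range.1 (Finset.mem_filter.1 b.2).1)).1 (congrArg Subtype.val h))
  · rintro ⟨g, hg, hgu⟩
    obtain ⟨n, hn, rfl⟩ := R.exists_el hg
    exact ⟨⟨n, Finset.mem_filter.2 ⟨Finset.mem_range.2 hn,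
      (R.cm_iff hu hn).2 (mem_centralizer_singleton_iff.1 hgu).symm⟩⟩, rfl⟩

variable (hc : p.cert = true)

include hc

theorem z_comm {g : G} (hg : g ∈ (P : Subgroup G)) : g * R.z = R.z * g := by
  obtain ⟨n, hn, rfl⟩ := R.exists_el hg
  simp only [Par.sq, Par.cert, Bool.and_eq_true, List.all_eq_true, List.mem_range] at hc
  exact ((R.cm_iff (by norm_num) hn).1 (hc.1.2 n hn)).symm

theorem P_le : (P : Subgroup G) ≤ centralizer ({R.z} : Set G) := fun _ hg =>
  mem_centralizer_singleton_iff.2 (R.z_comm hc hg)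

/-- An element of order four inverted by an element with trivial square or the same square has
square `z`. -/
theorem rev_sq {a b : G} (ha : a ∈ (P : Subgroup G)) (hb : b ∈ (P : Subgroup G)) (h2 : a * a ≠ 1)
    (h4 : a * a * (a * a) = 1) (hab : a * b * a = b) (hb2 : b * b = 1 ∨ b * b = a * a) :
    a * a = R.z := by
  obtain ⟨i, hi, rfl⟩ := R.exists_el ha
  obtain ⟨j, hj, rfl⟩ := R.exists_el hb
  have hs := p.mul_lt i i
  simp only [Par.sq, Par.cert, Bool.and_eq_true, List.all_eq_true, List.mem_range] at hc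
  have h := hc.1.1
  simp only [Par.sq, Par.revZ, List.all_eq_true, List.mem_range, Bool.or_eq_true, Bool.not_eq_true',
    Bool.eq_false_iff, Par.root, Par.sq, Bool.and_eq_true, ne_eq] at h
  rcases h i hi with (h | h) | h
  · refine absurd ⟨fun e => h2 ?_, ?_⟩ h
    · rw [← R.el_sq hi, (R.beq_iff hs (by norm_num)).1 e, R.el_zero]
    · refine (R.beq_iff (p.mul_lt _ _) (by norm_num)).2 ?_
      rw [R.el_sq hs, R.el_sq hi, h4, R.el_zero]
  · rw [← R.el_sq hi]
    exact (R.beq_iff hs (by norm_num)).1 h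
  · refine absurd ?_ (h j hj)
    simp only [Par.sq, Par.rev, Bool.and_eq_true, Bool.or_eq_true]
    refine ⟨(R.beq_iff (p.mul_lt _ _) hj).2 ?_, ?_⟩
    · rw [R.el_mul (p.mul_lt _ _) hi, R.el_mul hi hj, hab]
    · refine hb2.imp (fun e => (R.beq_iff (p.mul_lt _ _) (by norm_num)).2 ?_)
        fun e => (R.beq_iff (p.mul_lt _ _) hs).2 ?_
      · rw [R.el_sq hj, e, R.el_zero]
      · rw [R.el_sq hj, e, R.el_sq hi]

variable [Finite G]

theorem pull {u : G} {h : G} (hh : h * u * h⁻¹ = R.z) :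
    ∃ g : G, g * u * g⁻¹ = R.z ∧ ∀ c ∈ (P : Subgroup G), c * u = u * c → g * c * g⁻¹ ∈ (P : Subgroup G) := by
  set T := ((P : Subgroup G) ⊓ centralizer ({u} : Set G)).map (MulAut.conj h).toMonoidHom with hT
  have hTz : T ≤ centralizer ({R.z} : Set G) := by
    rintro _ ⟨c, hcc, rfl⟩
    refine mem_centralizer_singleton_iff.2 ?_
    show h * c * h⁻¹ * R.z = R.z * (h * c * h⁻¹)
    have hcu := mem_centralizer_singleton_iff.1 hcc.2
    rw [← hh, show h * c * h⁻¹ * (h * u * h⁻¹) = h * (c * u) * h⁻¹ by group, hcu]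
    group
  obtain ⟨d, hd, hd'⟩ := conj_into P (R.P_le hc)
    ((P.2.to_le inf_le_left).map (MulAut.conj h).toMonoidHom) hTz
  refine ⟨d * h, ?_, fun c hc1 hc2 => ?_⟩
  · rw [show d * h * u * (d * h)⁻¹ = d * (h * u * h⁻¹) * d⁻¹ by group, hh,
      mem_centralizer_singleton_iff.1 hd, mul_inv_cancel_right]
  · rw [show d * h * c * (d * h)⁻¹ = d * (h * c * h⁻¹) * d⁻¹ by group]
    exact hd' _ ⟨c, ⟨hc1, mem_centralizer_singleton_iff.2 hc2⟩, rfl⟩

omit [Finite G] in
theorem cert_at {u : ℕ} (hu : u < 64) (h0 : u ≠ 0) (hz : R.el u ≠ R.z)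
    (h2 : R.el u * R.el u = 1) :
    if p.big u then p.bigOK u = true else p.smallOK u = true := by
  simp only [Par.sq, Par.cert, Bool.and_eq_true, List.all_eq_true, List.mem_range, Bool.or_eq_true,
    Bool.not_eq_true', Bool.eq_false_iff, ne_eq] at hc
  rcases hc.2 u hu with ((h | h) | h) | h
  · exact absurd (Nat.eq_of_beq_eq_true h) h0
  · exact absurd ((R.beq_iff hu (by norm_num)).1 h) hz
  · refine absurd ?_ h
    exact (R.beq_iff (p.mul_lt _ _) (by norm_num)).2 (by rw [R.el_sq hu, h2, R.el_zero])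
  · split <;> simp_all

omit [Finite G] in
theorem big_spec {u : ℕ} (hu : u < 64) (hb : p.big u = true) :
    u ≠ 0 ∧ R.el u ≠ R.z ∧ R.el u * R.el u = 1 := by
  simp only [Par.sq, Par.big, Bool.and_eq_true, Bool.not_eq_true', Bool.eq_false_iff, ne_eq] at hb
  refine ⟨fun e => hb.1.1.1 (by rw [e]; rfl), fun e => hb.1.1.2 ?_, ?_⟩
  · exact (R.beq_iff hu (by norm_num)).2 e
  · rw [← R.el_sq hu, (R.beq_iff (p.mul_lt _ _) (by norm_num)).1 hb.1.2, R.el_zero]

theorem big_not_conj {u : ℕ} (hu : u < 64) (hb : p.big u = true) : ¬ IsConj (R.el u) R.z := by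
  intro hconj
  obtain ⟨h, hh⟩ := isConj_iff.1 hconj
  obtain ⟨g, hgu, hg⟩ := R.pull hc hh
  obtain ⟨h0, hz, h2⟩ := R.big_spec hc hu hb
  have hcert := R.cert_at hc hu h0 hz h2
  rw [if_pos hb] at hcert
  simp only [Par.sq, Par.bigOK, List.any_eq_true, List.mem_range, Bool.and_eq_true, Bool.or_eq_true] at hcert
  obtain ⟨a, ha, ⟨hau, haz⟩, hcase⟩ := hcert
  have haz' : R.el a * R.el a = R.z := by
    rw [← R.el_sq ha]; exact (R.beq_iff (p.mul_lt _ _) (by norm_num)).1 haz
  have hz1 : R.z ≠ 1 := fun e => absurd ((R.eq_one (by norm_num)).1 e) (by norm_num)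
  have hz2 : R.z * R.z = 1 := by
    rw [← hgu, show g * R.el u * g⁻¹ * (g * R.el u * g⁻¹) = g * (R.el u * R.el u) * g⁻¹ by group, h2]
    group
  have ha' : g * R.el a * g⁻¹ ∈ (P : Subgroup G) :=
    hg _ (R.el_mem a) ((R.cm_iff hu ha).1 hau).symm
  have hsq : g * R.el a * g⁻¹ * (g * R.el a * g⁻¹) = g * R.z * g⁻¹ := by
    rw [← haz']; group
  have hne : g * R.z * g⁻¹ ≠ R.z := fun e => hz
    (mul_left_cancel (mul_right_cancel (hgu.trans e.symm)))
  have hne1 : g * R.z * g⁻¹ ≠ 1 := fun e => hz1 (conj_eq_one_iff.1 e)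
  have h4 : g * R.z * g⁻¹ * (g * R.z * g⁻¹) = 1 := by
    rw [show g * R.z * g⁻¹ * (g * R.z * g⁻¹) = g * (R.z * R.z) * g⁻¹ by group, hz2]; group
  rcases hcase with hroots | ⟨b, hbl, hbu, hrev⟩
  · obtain ⟨i, hi, hie⟩ := R.exists_el ha'
    simp only [Par.sq, Par.rootsZ, List.all_eq_true, List.mem_range, Bool.or_eq_true, Bool.not_eq_true',
      Bool.eq_false_iff, Par.root, Par.sq, Bool.and_eq_true, ne_eq] at hroots
    rcases hroots i hi with h' | h'
    · refine h' ⟨fun e => hne1 ?_, ?_⟩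
      · rw [← hsq, ← hie, ← R.el_sq hi, (R.beq_iff (p.mul_lt _ _) (by norm_num)).1 e, R.el_zero]
      · refine (R.beq_iff (p.mul_lt _ _) (by norm_num)).2 ?_
        rw [R.el_sq (p.mul_lt _ _), R.el_sq hi, hie, hsq, h4, R.el_zero]
    · refine hne ?_
      rw [← hsq, ← hie, ← R.el_sq hi]
      exact (R.beq_iff (p.mul_lt _ _) (by norm_num)).1 h'
  · simp only [Par.sq, Par.rev, Bool.and_eq_true, Bool.or_eq_true] at hrev
    have hrev1 : R.el a * R.el b * R.el a = R.el b := by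
      rw [← R.el_mul ha hbl, ← R.el_mul (p.mul_lt _ _) ha]
      exact (R.beq_iff (p.mul_lt _ _) hbl).1 hrev.1
    refine hne (hsq ▸ R.rev_sq hc ha' (hg _ (R.el_mem b) ((R.cm_iff hu hbl).1 hbu).symm) ?_ ?_ ?_ ?_)
    · rw [hsq]; exact hne1
    · rw [hsq]; exact h4
    · conv_rhs => rw [← hrev1]
      group
    · refine hrev.2.imp (fun e => ?_) fun e => ?_
      · rw [show g * R.el b * g⁻¹ * (g * R.el b * g⁻¹) = g * (R.el b * R.el b) * g⁻¹ by group,
          ← R.el_sq hbl, (R.beq_iff (p.mul_lt _ _) (by norm_num)).1 e, R.el_zero]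
        group
      · rw [hsq, show g * R.el b * g⁻¹ * (g * R.el b * g⁻¹) = g * (R.el b * R.el b) * g⁻¹ by group,
          ← R.el_sq hbl, (R.beq_iff (p.mul_lt _ _) (p.mul_lt _ _)).1 e, R.el_sq ha, haz']

theorem small_not_conj {u : ℕ} (hu : u < 64) (h0 : u ≠ 0) (hz : R.el u ≠ R.z)
    (h2 : R.el u * R.el u = 1) (hb : p.big u = false) : ¬ IsConj (R.el u) R.z := by
  intro hconj
  have hcert := R.cert_at hc hu h0 hz h2
  rw [if_neg (by simp [hb])] at hcert
  simp only [Par.smallOK, List.any_eq_true, List.mem_range, Bool.and_eq_true, List.all_eq_true,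
    Bool.or_eq_true, Bool.not_eq_true', Bool.eq_false_iff, ne_eq] at hcert
  obtain ⟨h8, q, hq, ⟨⟨hqu, hqb⟩, hqzb⟩, hall⟩ := hcert
  set E := (P : Subgroup G) ⊓ centralizer ({R.el u} : Set G) with hE
  have hE8 : Nat.card E = 2 ^ 3 := by rw [R.card_cent hu, Nat.eq_of_beq_eq_true h8]; norm_num
  obtain ⟨h, hh⟩ := isConj_iff.1 hconj
  have hPcard : Nat.card ↥(P : Subgroup G) = 64 := by
    rw [← Nat.card_fin 64]
    refine (Nat.card_congr (Equiv.ofBijective (fun a => ⟨R.φ a, R.mem a⟩) ⟨?_, ?_⟩)).symm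
    · exact fun a b e => R.inj (congrArg Subtype.val e)
    · rintro ⟨g, hg⟩
      obtain ⟨a, rfl⟩ := R.surj g hg
      exact ⟨a, rfl⟩
  have hdvd : 2 ^ (3 + 1) ∣ Nat.card (centralizer ({R.el u} : Set G)) := by
    rw [card_centralizer_conj h, hh]
    refine dvd_trans ?_ (card_dvd_of_le (R.P_le hc))
    rw [hPcard]; norm_num
  obtain ⟨K, hKu, hK, hEK, hN⟩ := grow hE8 inf_le_right hdvd
  have hqz := p.mul_lt q 16
  have hqE : R.el q ∈ E := ⟨R.el_mem q, mem_centralizer_singleton_iff.2 ((R.cm_iff hu hq).1 hqu).symm⟩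
  have hzE : R.z ∈ E := ⟨R.el_mem 16, mem_centralizer_singleton_iff.2 (R.z_comm hc (R.el_mem u)).symm⟩
  have hqzE : R.el (p.mul q 16) ∈ E := by
    rw [R.el_mul hq (by norm_num)]; exact mul_mem hqE hzE
  have img : ∀ r, r < 64 → p.big r = true → R.el r ∈ E → ∀ k ∈ K,
      k * R.el r * k⁻¹ = R.el q ∨ k * R.el r * k⁻¹ = R.el (p.mul q 16) := by
    intro r hr hrb hrE k hk
    have hkE := hN k hk _ hrE
    obtain ⟨x, hx, hxe⟩ := R.exists_el hkE.1
    have hc' : IsConj (R.el r) (R.el x) := isConj_iff.2 ⟨k, hxe.symm⟩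
    have hnot := R.big_not_conj hc hr hrb
    have hxu : p.cm u x = true :=
      (R.cm_iff hu hx).2 (hxe ▸ (mem_centralizer_singleton_iff.1 hkE.2).symm)
    rcases hall x hx with ((((h' | h') | h') | h') | h') | h'
    · exact absurd hxu h'
    · refine absurd ?_ (R.big_spec hc hr hrb).1
      rw [Nat.eq_of_beq_eq_true h', R.el_zero] at hxe
      exact (R.eq_one hr).1 (conj_eq_one_iff.1 hxe.symm)
    · rw [Nat.eq_of_beq_eq_true h'] at hc'
      exact absurd hc' hnot
    · exact Or.inl (by rw [← hxe, Nat.eq_of_beq_eq_true h'])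
    · exact Or.inr (by rw [← hxe, Nat.eq_of_beq_eq_true h'])
    · obtain ⟨g, hg, hge⟩ := h'
      have h1 := (R.beq_iff (p.mul_lt _ _) (p.mul_lt _ _)).1 hge
      rw [R.el_mul hg hu, R.el_mul hx hg] at h1
      have : IsConj (R.el u) (R.el x) := isConj_iff.2 ⟨R.el g, by rw [h1, mul_inv_cancel_right]⟩
      exact absurd ((hc'.trans this.symm).trans hconj) hnot
  have hzz : R.z * R.z = 1 := by
    rw [← hh, show h * R.el u * h⁻¹ * (h * R.el u * h⁻¹) = h * (R.el u * R.el u) * h⁻¹ by group, h2]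
    group
  have hKz : K ≤ centralizer ({R.z} : Set G) := by
    intro k hk
    refine mem_centralizer_singleton_iff.2 (mul_inv_eq_iff_eq_mul.1 ?_)
    have hqz' : R.el (p.mul q 16) = R.el q * R.z := R.el_mul hq (by norm_num)
    have key : k * R.z * k⁻¹ = (k * R.el q * k⁻¹)⁻¹ * (k * R.el (p.mul q 16) * k⁻¹) := by
      rw [hqz']; group
    have hne : k * R.el q * k⁻¹ ≠ k * R.el (p.mul q 16) * k⁻¹ := fun e => by
      rw [hqz'] at e
      simp at e
      exact absurd ((R.eq_one (by norm_num)).1 e) (by norm_num)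
    rw [key]
    rcases img q hq hqb hqE k hk with h1 | h1 <;>
      rcases img _ hqz hqzb hqzE k hk with h3 | h3
    · exact absurd (h1.trans h3.symm) hne
    · rw [h1, h3, hqz', inv_mul_cancel_left]
    · rw [h1, h3, hqz', mul_inv_rev, inv_eq_of_mul_eq_one_right hzz, mul_assoc, inv_mul_cancel, mul_one]
    · exact absurd (h1.trans h3.symm) hne
  obtain ⟨c, hcz, hcK⟩ := conj_into P (R.P_le hc) (IsPGroup.of_card hK) hKz
  have huE : R.el u ∈ E := ⟨R.el_mem u, mem_centralizer_singleton_iff.2 rfl⟩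
  obtain ⟨r, hr, hre⟩ := R.exists_el (hcK _ (hEK huE))
  have hle : K.map (MulAut.conj c).toMonoidHom ≤ (P : Subgroup G) ⊓ centralizer ({R.el r} : Set G) := by
    rintro _ ⟨k, hk, rfl⟩
    refine ⟨hcK k hk, mem_centralizer_singleton_iff.2 ?_⟩
    show c * k * c⁻¹ * R.el r = R.el r * (c * k * c⁻¹)
    rw [hre, show c * k * c⁻¹ * (c * R.el u * c⁻¹) = c * (k * R.el u) * c⁻¹ by group,
      mem_centralizer_singleton_iff.1 (hKu hk)]
    group
  have h16 : 16 ≤ p.ccard r := by
    have := card_le_of_le hle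
    rw [card_map_of_injective (MulAut.conj c).injective, hK, R.card_cent hr] at this
    exact this
  have hrb : p.big r = true := by
    simp only [Par.sq, Par.big, Bool.and_eq_true, Bool.not_eq_true', Bool.eq_false_iff, ne_eq]
    refine ⟨⟨⟨fun e => h0 ?_, fun e => hz ?_⟩, ?_⟩, Nat.ble_eq ▸ h16⟩
    · rw [Nat.eq_of_beq_eq_true e, R.el_zero] at hre
      exact (R.eq_one hu).1 (conj_eq_one_iff.1 hre.symm)
    · rw [Nat.eq_of_beq_eq_true e] at hre
      have := congrArg (fun x => c⁻¹ * x * c) hre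
      simp [mul_assoc] at this
      rw [← this]
      show c⁻¹ * (R.z * c) = R.z
      rw [← mem_centralizer_singleton_iff.1 hcz, inv_mul_cancel_left]
    · refine (R.beq_iff (p.mul_lt _ _) (by norm_num)).2 ?_
      rw [R.el_sq hr, hre, R.el_zero, show c * R.el u * c⁻¹ * (c * R.el u * c⁻¹) =
        c * (R.el u * R.el u) * c⁻¹ by group, h2]
      group
  exact R.big_not_conj hc hr hrb
    ((isConj_iff.2 ⟨c, hre.symm⟩ : IsConj (R.el u) (R.el r)).symm.trans hconj)

/-- The central involution is isolated. -/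
theorem isolated (hz2 : R.z * R.z = 1) : Cfsg.IsIsolatedInvolution R.z := by
  have hz1 : R.z ≠ 1 := fun e => absurd ((R.eq_one (by norm_num)).1 e) (by norm_num)
  refine Invol.isolated_of_sylow P (Invol.orderOf_eq_two_iff.2 ⟨hz1, hz2⟩) fun g hg => ?_
  obtain ⟨u, hu, hue⟩ := R.exists_el hg
  rw [← hue]
  by_contra hne
  have hconj : IsConj (R.el u) R.z := by
    rw [hue]; exact (isConj_iff.2 ⟨g, rfl⟩ : IsConj R.z _).symm
  have h0 : u ≠ 0 := fun e => hz1 (by
    rw [e, R.el_zero] at hue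
    exact conj_eq_one_iff.1 hue.symm)
  have h2 : R.el u * R.el u = 1 := by
    rw [hue, show g * R.z * g⁻¹ * (g * R.z * g⁻¹) = g * (R.z * R.z) * g⁻¹ by group, hz2]; group
  cases hb : p.big u with
  | true => exact R.big_not_conj hc hu hb hconj
  | false => exact R.small_not_conj hc hu h0 hne h2 hb hconj

/-- A certified table is not a Sylow 2-subgroup of a nonabelian simple group. -/
theorem not_simple [IsSimpleGroup G] (hG : ¬ IsMulCommutative G) (hz2 : R.z * R.z = 1) : False := by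
  have hz := R.isolated hc hz2
  have hO : Cfsg.oddCore G = ⊥ := by
    haveI : (Cfsg.oddCore G).Normal := Core.pPrimeCore_normal
    rcases Subgroup.Normal.eq_bot_or_eq_top (inferInstance : (Cfsg.oddCore G).Normal) with h | h
    · exact h
    · exfalso
      refine Core.not_dvd_card_pPrimeCore (p := 2) (G := G) ?_
      show 2 ∣ Nat.card (Cfsg.oddCore G)
      rw [h, Subgroup.card_top, ← hz.1]
      exact orderOf_dvd_natCard R.z
  have hcen : R.z ∈ center G := mem_center_iff.2 fun g => by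
    have h := Invol.zstar hz g
    rw [hO, mem_bot] at h
    exact (mul_inv_eq_iff_eq_mul.1 (mul_inv_eq_one.1 h)).symm
  rcases Subgroup.Normal.eq_bot_or_eq_top (inferInstance : (center G).Normal) with h | h
  · rw [h, mem_bot] at hcen
    exact Invol.ne_one hz.1 hcen
  · exact hG ⟨⟨fun a b => (mem_center_iff.1 (h ▸ mem_top b) a)⟩⟩

end Rep

end Cfsg.Agent.M12Eight
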