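import Cfsg.Agent.M12Eight.Model

/-!
Finite facts on the tables of the normalizer of the cyclic subgroup, by evaluation.
-/

set_option autoImplicit false
set_option maxRecDepth 20000
set_option maxHeartbeats 1000000
set_option synthInstance.maxSize 2000
set_option synthInstance.maxHeartbeats 200000

namespace Cfsg.Agent.M12Eight

/-- An iterate. -/
def itn (F : ℕ → ℕ) : ℕ → ℕ → ℕ
  | 0, v => v
  | n + 1, v => F (itn F n v)

theorem mN_gen : ∀ ep : Fin 2, ∀ i : Fin 8, ∀ a : Fin 2, ∀ b : Fin 2,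
    mN ep.1 4 (4 * i.1 + 2 * a.1 + b.1) = 4 * ((i.1 + 1) % 8) + 2 * a.1 + b.1 ∧
    mN ep.1 2 (4 * i.1 + 2 * a.1 + b.1) =
      4 * ((7 * i.1 + 4 * ep.1 * a.1) % 8) + 2 * ((a.1 + 1) % 2) + b.1 ∧
    mN ep.1 1 (4 * i.1 + 2 * a.1 + b.1) = 4 * (5 * i.1 % 8) + 2 * a.1 + (b.1 + 1) % 2 := by
  decide +kernel

theorem mN_iter : ∀ ep : Fin 2, ∀ u : Fin 32, ∀ v : Fin 32,
    mN ep.1 u.1 v.1 = itn (mN ep.1 4) (u.1 / 4)
      (itn (mN ep.1 2) (u.1 / 2 % 2) (itn (mN ep.1 1) (u.1 % 2) v.1)) := by decide +kernel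

theorem mN_five : ∀ ep : Fin 2, ∀ u : Fin 32, pwN ep.1 u.1 4 ≠ 0 → u.1 % 4 ≠ 0 →
    ∃ g : Fin 32, mN ep.1 g.1 u.1 = mN ep.1 5 g.1 := by decide +kernel

end Cfsg.Agent.M12Eight
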