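import Cfsg.Agent.M12Eight.Bounds
import Cfsg.Agent.M12Eight.NormTab
import Cfsg.Agent.M12Eight.Checks

/-!
A group of order 64 with a self-centralizing cyclic subgroup of order 8 all of whose automorphisms
are induced in it is one of the tables.
-/

set_option autoImplicit false
set_option linter.style.haveILetI false
set_option linter.unusedSectionVars false

namespace Cfsg.Agent.M12Eight

/-- Generators of the normalizer of the cyclic subgroup, in normal form. -/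
structure NData (H : Type*) [Group H] (ep : ℕ) where
  /-- the element of order 8 -/
  f : H
  /-- an element inverting `f` -/
  x : H
  /-- an involution taking `f` to its fifth power -/
  w : H
  hep : ep < 2
  ord : orderOf f = 8
  self : ∀ g : H, g * f = f * g → g ∈ Subgroup.zpowers f
  hx : x * f * x⁻¹ = f ^ 7
  hw : w * f * w⁻¹ = f ^ 5
  x2 : x * x = f ^ (4 * ep)
  w2 : w * w = 1
  xw : w * x = x * w

section

variable {H : Type*} [Group H]

theorem exists_pow {f g : H} (hf : orderOf f = 8) (hg : g ∈ Subgroup.zpowers f) :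
    ∃ i < 8, g = f ^ i := by
  classical
  have hfo : IsOfFinOrder f := orderOf_pos_iff.1 (by rw [hf]; norm_num)
  have := (hfo.mem_zpowers_iff_mem_range_orderOf).1 hg
  simp only [Finset.mem_image, Finset.mem_range, hf] at this
  obtain ⟨i, hi, rfl⟩ := this
  exact ⟨i, hi, rfl⟩

theorem pow_eq_iff {f : H} (hf : orderOf f = 8) {i j : ℕ} : f ^ i = f ^ j ↔ i % 8 = j % 8 := by
  rw [pow_eq_pow_iff_modEq, hf]; rfl

/-- The normal form for the generators. -/
theorem exists_NData (f : H) (hf : orderOf f = 8)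
    (hself : ∀ g : H, g * f = f * g → g ∈ Subgroup.zpowers f)
    {x w : H} (hx : x * f * x⁻¹ = f ^ 7) (hw : w * f * w⁻¹ = f ^ 5) :
    ∃ ep, Nonempty (NData H ep) := by
  have conjpow : ∀ (g : H) (k i : ℕ), g * f * g⁻¹ = f ^ k → g * f ^ i * g⁻¹ = f ^ (k * i) :=
    fun g k i h => by rw [← conj_pow, h, ← pow_mul]
  -- the square of `x`
  obtain ⟨i, hi, hxi⟩ := exists_pow hf (hself (x * x) (mul_inv_eq_iff_eq_mul.1 (by
    calc x * x * f * (x * x)⁻¹ = x * (x * f * x⁻¹) * x⁻¹ := by group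
      _ = f ^ (7 * 7) := by rw [hx, conjpow x 7 7 hx]
      _ = f := by conv_rhs => rw [← pow_one f]
                  rw [pow_eq_iff hf])))
  have hi4 : i % 4 = 0 := by
    have h1 : f ^ (7 * i) = f ^ i := by
      rw [← conjpow x 7 i hx, ← hxi]; group
    rw [pow_eq_iff hf] at h1
    omega
  -- the square of `w`
  obtain ⟨k, hk, hwk⟩ := exists_pow hf (hself (w * w) (mul_inv_eq_iff_eq_mul.1 (by
    calc w * w * f * (w * w)⁻¹ = w * (w * f * w⁻¹) * w⁻¹ := by group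
      _ = f ^ (5 * 5) := by rw [hw, conjpow w 5 5 hw]
      _ = f := by conv_rhs => rw [← pow_one f]
                  rw [pow_eq_iff hf])))
  have hk2 : k % 2 = 0 := by
    have h1 : f ^ (5 * k) = f ^ k := by
      rw [← conjpow w 5 k hw, ← hwk]; group
    rw [pow_eq_iff hf] at h1
    omega
  set w' := f ^ (k / 2) * w with hw'
  have hw'f : w' * f * w'⁻¹ = f ^ 5 := by
    rw [hw', show f ^ (k / 2) * w * f * (f ^ (k / 2) * w)⁻¹ =
      f ^ (k / 2) * (w * f * w⁻¹) * (f ^ (k / 2))⁻¹ by group, hw]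
    group
  have hw'2 : w' * w' = 1 := by
    rw [hw', show f ^ (k / 2) * w * (f ^ (k / 2) * w) =
      f ^ (k / 2) * (w * f ^ (k / 2) * w⁻¹) * (w * w) by group, conjpow w 5 _ hw, hwk, ← pow_add,
      ← pow_add, ← pow_zero f, pow_eq_iff hf]
    omega
  have hw'i : w'⁻¹ = w' := inv_eq_of_mul_eq_one_right hw'2
  -- their commutator
  obtain ⟨r, hr, hwr⟩ := exists_pow hf (hself (w' * x * w'⁻¹ * x⁻¹) (mul_inv_eq_iff_eq_mul.1 (by
    calc w' * x * w'⁻¹ * x⁻¹ * f * (w' * x * w'⁻¹ * x⁻¹)⁻¹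
        = w' * (x * (w'⁻¹ * (x⁻¹ * f * x) * w') * x⁻¹) * w'⁻¹ := by group
      _ = f := by
          have hx' : x⁻¹ * f * x = f ^ 7 := by
            have h7 := conjpow x 7 7 hx
            rw [show f ^ (7 * 7) = f ^ 1 from (pow_eq_iff hf).2 (by norm_num), pow_one] at h7
            conv_lhs => rw [← h7]
            group
          have hinv : ∀ i, w'⁻¹ * f ^ i * w' = f ^ (5 * i) := fun i => by
            rw [← conjpow w' 5 i hw'f, hw'i]
          rw [hx', hinv, conjpow x 7 _ hx, conjpow w' 5 _ hw'f]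
          conv_rhs => rw [← pow_one f]
          rw [pow_eq_iff hf])))
  have hwx : w' * x * w'⁻¹ = f ^ r * x := by rw [← hwr]; group
  have hr4 : r % 4 = 0 := by
    have h1 : x = f ^ (5 * r + r) * x := by
      calc x = w' * (w' * x * w'⁻¹) * w'⁻¹ := by
            rw [show w' * (w' * x * w'⁻¹) * w'⁻¹ = (w' * w') * x * (w' * w')⁻¹ by group, hw'2]
            group
        _ = w' * (f ^ r * x) * w'⁻¹ := by rw [hwx]
        _ = (w' * f ^ r * w'⁻¹) * (w' * x * w'⁻¹) := by group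
        _ = f ^ (5 * r + r) * x := by rw [conjpow w' 5 r hw'f, hwx, pow_add, mul_assoc]
    have h2 : f ^ (5 * r + r) = f ^ 0 := by
      rw [pow_zero]; exact (right_eq_mul.1 h1)
    rw [pow_eq_iff hf] at h2
    omega
  have hfx : f ^ (r / 4) * x * f * (f ^ (r / 4) * x)⁻¹ = f ^ 7 := by
    rw [show f ^ (r / 4) * x * f * (f ^ (r / 4) * x)⁻¹ =
      f ^ (r / 4) * (x * f * x⁻¹) * (f ^ (r / 4))⁻¹ by group, hx]
    group
  refine ⟨i / 4, ⟨⟨f, f ^ (r / 4) * x, w', by omega, hf, hself, hfx, hw'f, ?_, hw'2, ?_⟩⟩⟩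
  · rw [show f ^ (r / 4) * x * (f ^ (r / 4) * x) =
      f ^ (r / 4) * (x * f ^ (r / 4) * x⁻¹) * (x * x) by group, conjpow x 7 _ hx, hxi, ← pow_add,
      ← pow_add, pow_eq_iff hf]
    omega
  · have h1 : w' * (f ^ (r / 4) * x) * w'⁻¹ = f ^ (r / 4) * x := by
      rw [show w' * (f ^ (r / 4) * x) * w'⁻¹ = (w' * f ^ (r / 4) * w'⁻¹) * (w' * x * w'⁻¹) by group,
        conjpow w' 5 _ hw'f, hwx, ← mul_assoc, ← pow_add, mul_left_inj, pow_eq_iff hf]
      omega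
    exact mul_inv_eq_iff_eq_mul.1 h1

end

namespace NData

variable {H : Type*} [Group H] {ep : ℕ} (D : NData H ep)

/-- The element with a given index. -/
def φ (u : ℕ) : H := D.f ^ (u / 4) * D.x ^ (u / 2 % 2) * D.w ^ (u % 2)

theorem φ_mk (i : ℕ) {a b : ℕ} (ha : a < 2) (hb : b < 2) :
    D.φ (4 * i + 2 * a + b) = D.f ^ i * D.x ^ a * D.w ^ b := by
  simp only [φ]
  rw [show (4 * i + 2 * a + b) / 4 = i by omega, show (4 * i + 2 * a + b) / 2 % 2 = a by omega,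
    show (4 * i + 2 * a + b) % 2 = b by omega]

theorem exists_mk {u : ℕ} (hu : u < 32) :
    ∃ i a b : ℕ, i < 8 ∧ a < 2 ∧ b < 2 ∧ u = 4 * i + 2 * a + b :=
  ⟨u / 4, u / 2 % 2, u % 2, by omega, by omega, by omega, by omega⟩

theorem φ_zero : D.φ 0 = 1 := by simp [φ]

theorem fpow {i j : ℕ} : D.f ^ i = D.f ^ j ↔ i % 8 = j % 8 := pow_eq_iff D.ord

theorem x_pow (i : ℕ) : D.x * D.f ^ i = D.f ^ (7 * i) * D.x := by
  refine mul_inv_eq_iff_eq_mul.1 ?_
  rw [← conj_pow, D.hx, ← pow_mul]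

theorem w_pow (i : ℕ) : D.w * D.f ^ i = D.f ^ (5 * i) * D.w := by
  refine mul_inv_eq_iff_eq_mul.1 ?_
  rw [← conj_pow, D.hw, ← pow_mul]

theorem mul_f {v : ℕ} (hv : v < 32) : D.f * D.φ v = D.φ (mN ep 4 v) := by
  obtain ⟨i, a, b, hi, ha, hb, rfl⟩ := exists_mk hv
  rw [(mN_gen ⟨ep, D.hep⟩ ⟨i, hi⟩ ⟨a, ha⟩ ⟨b, hb⟩).1, D.φ_mk i ha hb, D.φ_mk _ ha hb,
    ← mul_assoc, ← mul_assoc, ← pow_succ', mul_left_inj, mul_left_inj, D.fpow]
  dsimp only
  omega

theorem mul_x {v : ℕ} (hv : v < 32) : D.x * D.φ v = D.φ (mN ep 2 v) := by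
  obtain ⟨i, a, b, hi, ha, hb, rfl⟩ := exists_mk hv
  rw [(mN_gen ⟨ep, D.hep⟩ ⟨i, hi⟩ ⟨a, ha⟩ ⟨b, hb⟩).2.1, D.φ_mk i ha hb,
    D.φ_mk _ (Nat.mod_lt _ (by norm_num)) hb]
  dsimp only
  rw [← mul_assoc, ← mul_assoc, D.x_pow, mul_left_inj]
  interval_cases a
  · simp only [pow_zero, mul_one, zero_add, Nat.mul_zero, add_zero, Nat.one_mod, pow_one]
    rw [mul_left_inj, D.fpow]
    omega
  · norm_num
    rw [mul_assoc, D.x2, ← pow_add, D.fpow]
    omega

theorem mul_w {v : ℕ} (hv : v < 32) : D.w * D.φ v = D.φ (mN ep 1 v) := by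
  obtain ⟨i, a, b, hi, ha, hb, rfl⟩ := exists_mk hv
  rw [(mN_gen ⟨ep, D.hep⟩ ⟨i, hi⟩ ⟨a, ha⟩ ⟨b, hb⟩).2.2, D.φ_mk i ha hb,
    D.φ_mk _ ha (Nat.mod_lt _ (by norm_num))]
  dsimp only
  rw [← mul_assoc, ← mul_assoc, D.w_pow, mul_assoc (D.f ^ (5 * i)),
    (Commute.pow_right (show Commute D.w D.x from D.xw) a).eq, ← mul_assoc, mul_assoc _ D.w,
    show D.f ^ (5 * i % 8) = D.f ^ (5 * i) from D.fpow.2 (by omega), mul_right_inj]
  interval_cases b
  · simp
  · simp [D.w2]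

theorem iter_gen {g : H} {n0 : ℕ} (h : ∀ v < 32, g * D.φ v = D.φ (mN ep n0 v)) :
    ∀ n v, v < 32 → itn (mN ep n0) n v < 32 ∧ D.φ (itn (mN ep n0) n v) = g ^ n * D.φ v
  | 0, v, hv => by simp [itn, hv]
  | n + 1, v, hv => by
    obtain ⟨h1, h2⟩ := iter_gen h n v hv
    refine ⟨mN_lt _ _ _, ?_⟩
    show D.φ (mN ep n0 (itn (mN ep n0) n v)) = _
    rw [← h _ h1, h2, pow_succ', mul_assoc]

theorem φ_mul {u v : ℕ} (hu : u < 32) (hv : v < 32) : D.φ (mN ep u v) = D.φ u * D.φ v := by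
  rw [mN_iter ⟨ep, D.hep⟩ ⟨u, hu⟩ ⟨v, hv⟩]
  dsimp only
  obtain ⟨h1, e1⟩ := D.iter_gen (fun _ => D.mul_w) (u % 2) v hv
  obtain ⟨h2, e2⟩ := D.iter_gen (fun _ => D.mul_x) (u / 2 % 2) _ h1
  obtain ⟨-, e3⟩ := D.iter_gen (fun _ => D.mul_f) (u / 4) _ h2
  rw [e3, e2, e1]
  simp only [φ, mul_assoc]

theorem φ_pw {u : ℕ} (hu : u < 32) : ∀ n, D.φ (pwN ep u n) = D.φ u ^ n
  | 0 => by simp [pwN, D.φ_zero]
  | n + 1 => by
    show D.φ (mN ep (pwN ep u n) u) = _
    rw [D.φ_mul (pwN_lt _ _ _) hu, φ_pw hu n, pow_succ]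

theorem conj_φ {u : ℕ} (hu : u < 32) :
    D.φ u * D.f * (D.φ u)⁻¹ =
      D.f ^ ((if u / 2 % 2 = 0 then 1 else 7) * (if u % 2 = 0 then 1 else 5)) := by
  obtain ⟨i, a, b, hi, ha, hb, rfl⟩ := exists_mk hu
  rw [show (4 * i + 2 * a + b) / 2 % 2 = a by omega, show (4 * i + 2 * a + b) % 2 = b by omega,
    D.φ_mk i ha hb, show D.f ^ i * D.x ^ a * D.w ^ b * D.f * (D.f ^ i * D.x ^ a * D.w ^ b)⁻¹ =
      D.f ^ i * (D.x ^ a * (D.w ^ b * D.f * (D.w ^ b)⁻¹) * (D.x ^ a)⁻¹) * (D.f ^ i)⁻¹ by group]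
  have hx5 : D.x * D.f ^ 5 * D.x⁻¹ = D.f ^ (7 * 5) := by rw [D.x_pow, mul_inv_cancel_right]
  interval_cases a <;> interval_cases b <;>
    simp only [pow_zero, pow_one, one_mul, inv_one, mul_one, if_true, one_ne_zero, if_false,
      D.hx, D.hw, hx5] <;> group

theorem φ_inj {u v : ℕ} (hu : u < 32) (hv : v < 32) (h : D.φ u = D.φ v) : u = v := by
  have h1 := D.conj_φ hu
  rw [h, D.conj_φ hv, D.fpow] at h1
  obtain ⟨i, a, b, hi, ha, hb, rfl⟩ := exists_mk hu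
  obtain ⟨j, c, d, hj, hc, hd, rfl⟩ := exists_mk hv
  rw [show (4 * i + 2 * a + b) / 2 % 2 = a by omega, show (4 * i + 2 * a + b) % 2 = b by omega,
    show (4 * j + 2 * c + d) / 2 % 2 = c by omega, show (4 * j + 2 * c + d) % 2 = d by omega] at h1
  have hab : a = c ∧ b = d := by
    interval_cases a <;> interval_cases b <;> interval_cases c <;> interval_cases d <;>
      simp_all
  obtain ⟨rfl, rfl⟩ := hab
  rw [D.φ_mk i ha hb, D.φ_mk j ha hb, mul_left_inj, mul_left_inj, D.fpow] at h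
  omega

/-- An element normalizing the cyclic subgroup lies in the image. -/
theorem exists_eq {g : H} (h : g * D.f * g⁻¹ ∈ Subgroup.zpowers D.f) :
    ∃ u < 32, D.φ u = g := by
  obtain ⟨k, hk, hgk⟩ := exists_pow D.ord h
  have hodd : k % 2 = 1 := by
    have ho : orderOf (D.f ^ k) = 8 := by
      rw [← hgk]
      exact (orderOf_injective (MulAut.conj g).toMonoidHom (MulAut.conj g).injective D.f).trans D.ord
    rcases Nat.eq_zero_or_pos k with rfl | hk0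
    · simp at ho
    rw [orderOf_pow' _ (by omega), D.ord] at ho
    interval_cases k <;> simp at ho <;> rfl
  obtain ⟨c, hc, hcd⟩ : ∃ c < 4,
      ((if c / 2 % 2 = 0 then 1 else 7) * (if c % 2 = 0 then 1 else 5)) % 8 = k % 8 := by
    interval_cases k
    all_goals first | omega | decide
  have hcf : D.φ c * D.f * (D.φ c)⁻¹ = g * D.f * g⁻¹ := by
    rw [D.conj_φ (by omega), hgk, D.fpow]; exact hcd
  obtain ⟨j, hj, hje⟩ := exists_pow D.ord (D.self (g * (D.φ c)⁻¹) (mul_inv_eq_iff_eq_mul.1 (by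
    calc g * (D.φ c)⁻¹ * D.f * (g * (D.φ c)⁻¹)⁻¹
        = g * (D.φ c)⁻¹ * D.f * (D.φ c * g⁻¹) := by group
      _ = D.f := by
          have hkk : g * D.f ^ k * g⁻¹ = D.f := by
            rw [← conj_pow, hgk, ← pow_mul]
            conv_rhs => rw [← pow_one D.f]
            rw [D.fpow]
            interval_cases k
            all_goals omega
          have hck : D.φ c * D.f ^ k * (D.φ c)⁻¹ = D.f := by
            rw [← conj_pow, hcf, hgk, ← pow_mul]
            conv_rhs => rw [← pow_one D.f]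
            rw [D.fpow]
            interval_cases k
            all_goals omega
          conv_rhs => rw [← hkk]
          conv_lhs => arg 1; arg 2; rw [← hck]
          group)))
  refine ⟨4 * j + c, by omega, ?_⟩
  have hg : g = D.f ^ j * D.φ c := by rw [← hje]; group
  rw [hg, show 4 * j + c = 4 * j + 2 * (c / 2) + c % 2 by omega,
    D.φ_mk j (by omega) (Nat.mod_lt _ (by norm_num))]
  simp only [φ]
  rw [show c / 4 = 0 by omega, show c / 2 % 2 = c / 2 by omega, pow_zero, one_mul, mul_assoc]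

/-- The image, a subgroup. -/
def N [Finite H] : Subgroup H where
  carrier := {g | ∃ u < 32, D.φ u = g}
  one_mem' := ⟨0, by norm_num, D.φ_zero⟩
  mul_mem' := by
    rintro _ _ ⟨u, hu, rfl⟩ ⟨v, hv, rfl⟩
    exact ⟨_, mN_lt _ _ _, D.φ_mul hu hv⟩
  inv_mem' := by
    rintro g ⟨u, hu, rfl⟩
    rw [inv_eq_of_mul_eq_one_right (show D.φ u * D.φ u ^ (Nat.card H - 1) = 1 by
      rw [← pow_succ', Nat.sub_add_cancel Nat.card_pos, pow_card_eq_one']), ← D.φ_pw hu]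
    exact ⟨_, pwN_lt _ _ _, rfl⟩

variable [Finite H]

theorem mem_N {g : H} : g ∈ D.N ↔ ∃ u < 32, D.φ u = g := Iff.rfl

theorem φ_mem {u : ℕ} (hu : u < 32) : D.φ u ∈ D.N := ⟨u, hu, rfl⟩

theorem card_N : Nat.card D.N = 32 := by
  rw [← Nat.card_fin 32]
  refine (Nat.card_congr (Equiv.ofBijective (fun u => ⟨D.φ u.1, D.φ_mem u.2⟩) ⟨?_, ?_⟩)).symm
  · exact fun a b e => Fin.ext (D.φ_inj a.2 b.2 (congrArg Subtype.val e))
  · rintro ⟨g, u, hu, rfl⟩
    exact ⟨⟨u, hu⟩, rfl⟩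

theorem index_N (hH : Nat.card H = 64) : D.N.index = 2 := by
  have := D.N.card_mul_index
  rw [D.card_N, hH] at this
  omega

theorem f_eq : D.φ 4 = D.f ∧ D.φ 2 = D.x ∧ D.φ 1 = D.w ∧ D.φ 5 = D.f * D.w := by
  simp [φ]

theorem exists_y (hH : Nat.card H = 64) :
    ∃ y : H, y ∉ D.N ∧ y * D.f * y⁻¹ = D.f * D.w := by
  obtain ⟨y, hy⟩ : ∃ y, y ∉ D.N := by
    by_contra h
    push Not at h
    have := D.index_N hH
    rw [show D.N = ⊤ from eq_top_iff.2 fun g _ => h g, Subgroup.index_top] at this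
    omega
  have hn := Subgroup.normal_of_index_eq_two (D.index_N hH)
  obtain ⟨u, hu, hue⟩ := hn.conj_mem _ (D.f_eq.1 ▸ D.φ_mem (by norm_num : 4 < 32)) y
  have ho : orderOf (D.φ u) = 8 := by
    rw [hue]
    exact (orderOf_injective (MulAut.conj y).toMonoidHom (MulAut.conj y).injective D.f).trans D.ord
  obtain ⟨g, hg⟩ := mN_five ⟨ep, D.hep⟩ ⟨u, hu⟩ (fun e => by
    have h1 := congrArg D.φ e
    dsimp only at h1
    rw [D.φ_pw hu, D.φ_zero] at h1
    have := orderOf_dvd_of_pow_eq_one h1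
    rw [ho] at this
    norm_num at this) (fun e => hy (D.exists_eq (hue ▸ ⟨(u / 4 : ℕ), by
      dsimp only at e
      show D.f ^ ((u / 4 : ℕ) : ℤ) = D.φ u
      simp only [φ]
      rw [show u / 2 % 2 = 0 by omega, show u % 2 = 0 by omega, zpow_natCast]
      simp⟩)))
  refine ⟨D.φ g * y, fun h => hy ?_, ?_⟩
  · have := mul_mem (inv_mem (D.φ_mem g.2)) h
    rwa [inv_mul_cancel_left] at this
  · rw [show D.φ g * y * D.f * (D.φ g * y)⁻¹ = D.φ g * (y * D.f * y⁻¹) * (D.φ g)⁻¹ by group, ← hue,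
      mul_inv_eq_iff_eq_mul, ← D.φ_mul g.2 hu, ← D.f_eq.2.2.2, ← D.φ_mul (by norm_num) g.2]
    exact congrArg D.φ hg

end NData

/-- The table of a group of order 64 with an element of order 8 as in the hypotheses. -/
theorem exists_table {H : Type*} [Group H] [Finite H] (hH : Nat.card H = 64) (f : H)
    (hf : orderOf f = 8) (hself : ∀ g : H, g * f = f * g → g ∈ Subgroup.zpowers f)
    {x w : H} (hx : x * f * x⁻¹ = f ^ 7) (hw : w * f * w⁻¹ = f ^ 5) :
    ∃ p : Par, (p ∈ others ∨ ∃ l, (p, l) ∈ imgs) ∧ ∃ ψ : Fin 64 → H, Function.Bijective ψ ∧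
      ∀ a b, ψ (p.mm a b) = ψ a * ψ b := by
  obtain ⟨ep, ⟨D⟩⟩ := exists_NData f hf hself hx hw
  obtain ⟨y, hy, hyf⟩ := D.exists_y hH
  have hi := D.index_N hH
  have hn := Subgroup.normal_of_index_eq_two hi
  obtain ⟨sx, hsx, hsxe⟩ := hn.conj_mem _ (D.f_eq.2.1 ▸ D.φ_mem (by norm_num : 2 < 32)) y
  obtain ⟨sw, hsw, hswe⟩ := hn.conj_mem _ (D.f_eq.2.2.1 ▸ D.φ_mem (by norm_num : 1 < 32)) y
  obtain ⟨n0, hn0, hn0e⟩ :=
    D.mem_N.1 ((Subgroup.mul_mem_iff_of_index_two hi (a := y) (b := y)).2 Iff.rfl)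
  set p : Par := ⟨ep, sx, sw, n0⟩
  set c := (MulAut.conj y).toMonoidHom
  have hsig : ∀ v, v < 32 → y * D.φ v * y⁻¹ = D.φ (p.sig v) := by
    intro v hv
    have e : p.sig v = mN ep (pwN ep 5 (v / 4))
        (mN ep (if v / 2 % 2 = 0 then 0 else sx) (if v % 2 = 0 then 0 else sw)) := rfl
    rw [e, D.φ_mul (pwN_lt _ _ _) (mN_lt _ _ _), D.φ_pw (by norm_num),
      D.φ_mul (by split <;> omega) (by split <;> omega), D.f_eq.2.2.2, ← hyf]
    show c (D.φ v) = _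
    simp only [NData.φ, map_mul, map_pow]
    rw [mul_assoc]
    congr 1
    congr 1
    · by_cases h : v / 2 % 2 = 0
      · rw [if_pos h, h, pow_zero]; simp
      · rw [if_neg h, show v / 2 % 2 = 1 by omega, pow_one]
        exact hsxe.symm
    · by_cases h : v % 2 = 0
      · rw [if_pos h, h, pow_zero]; simp
      · rw [if_neg h, show v % 2 = 1 by omega, pow_one]
        exact hswe.symm
  have pw5 : ∀ n, D.φ (pwN ep 5 n) = (y * D.f * y⁻¹) ^ n := fun n => by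
    rw [D.φ_pw (by norm_num), D.f_eq.2.2.2, hyf]
  have five : D.φ 5 = y * D.f * y⁻¹ := by rw [D.f_eq.2.2.2, hyf]
  have v1 : mN ep sx sx = pwN ep 5 (4 * ep) := D.φ_inj (mN_lt _ _ _) (pwN_lt _ _ _) (by
    rw [D.φ_mul hsx hsx, pw5, hsxe, conj_pow, ← D.x2]; group)
  have v2 : mN ep sx 5 = mN ep (pwN ep 5 7) sx := D.φ_inj (mN_lt _ _ _) (mN_lt _ _ _) (by
    rw [D.φ_mul hsx (by norm_num), D.φ_mul (pwN_lt _ _ _) hsx, pw5, hsxe, five, conj_pow, ← D.hx]
    group)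
  have v3 : mN ep sw sw = 0 := D.φ_inj (mN_lt _ _ _) (by norm_num) (by
    rw [D.φ_mul hsw hsw, hswe, D.φ_zero]
    calc y * D.w * y⁻¹ * (y * D.w * y⁻¹) = y * (D.w * D.w) * y⁻¹ := by group
      _ = 1 := by rw [D.w2]; group)
  have v4 : mN ep sw 5 = mN ep (pwN ep 5 5) sw := D.φ_inj (mN_lt _ _ _) (mN_lt _ _ _) (by
    rw [D.φ_mul hsw (by norm_num), D.φ_mul (pwN_lt _ _ _) hsw, pw5, hswe, five, conj_pow, ← D.hw]
    group)
  have v5 : mN ep sx sw = mN ep sw sx := D.φ_inj (mN_lt _ _ _) (mN_lt _ _ _) (by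
    rw [D.φ_mul hsx hsw, D.φ_mul hsw hsx, hsxe, hswe]
    calc y * D.x * y⁻¹ * (y * D.w * y⁻¹) = y * (D.x * D.w) * y⁻¹ := by group
      _ = _ := by rw [← D.xw]; group)
  have v6 : p.sig n0 = n0 := D.φ_inj (p.sig_lt _) hn0 (by rw [← hsig n0 hn0, hn0e]; group)
  have v7 : ([4, 2, 1].all fun g =>
      decide (mN ep (p.sig (p.sig g)) n0 = mN ep n0 g)) = true := by
    simp only [List.all_eq_true, decide_eq_true_eq]
    intro g hg
    have hg' : g < 32 := by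
      simp only [List.mem_cons, List.not_mem_nil, or_false] at hg
      omega
    refine D.φ_inj (mN_lt _ _ _) (mN_lt _ _ _) ?_
    rw [D.φ_mul (p.sig_lt _) hn0, D.φ_mul hn0 hg', ← hsig _ (p.sig_lt _), ← hsig _ hg', hn0e]
    group
  have hmem := valid_mem ⟨ep, D.hep⟩ ⟨sx, hsx⟩ ⟨v1, v2⟩ ⟨sw, hsw⟩ ⟨v3, v4, v5⟩ ⟨n0, hn0⟩ ⟨v6, v7⟩
  have code_inj : ∀ q : Par, q.code = [ep, sx, sw, n0] → q = p := by
    rintro ⟨a, b, c, d⟩ h
    simp only [Par.code, List.cons.injEq, and_true] at h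
    obtain ⟨rfl, rfl, rfl, rfl⟩ := h
    rfl
  refine ⟨p, ?_, fun m => D.φ (m.1 % 32) * y ^ (m.1 / 32), ?_, ?_⟩
  · rcases List.mem_append.1 hmem with h | h
    · obtain ⟨q, hq, hqe⟩ := List.mem_map.1 h
      exact Or.inr ⟨q.2, code_inj q.1 hqe ▸ hq⟩
    · obtain ⟨q, hq, hqe⟩ := List.mem_map.1 h
      exact Or.inl (code_inj q hqe ▸ hq)
  · haveI := Fintype.ofFinite H
    refine (Fintype.bijective_iff_surjective_and_card _).2 ⟨?_, ?_⟩
    · intro g
      by_cases hg : g ∈ D.N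
      · obtain ⟨u, hu, rfl⟩ := hg
        refine ⟨⟨u, by omega⟩, ?_⟩
        simp [Nat.mod_eq_of_lt hu, Nat.div_eq_of_lt hu]
      · have hgy : g * y⁻¹ ∈ D.N := (Subgroup.mul_mem_iff_of_index_two hi).2
          (iff_of_false hg fun h => hy (by simpa using inv_mem h))
        obtain ⟨u, hu, hue⟩ := hgy
        refine ⟨⟨u + 32, by omega⟩, ?_⟩
        show D.φ ((u + 32) % 32) * y ^ ((u + 32) / 32) = g
        rw [show (u + 32) % 32 = u by omega, show (u + 32) / 32 = 1 by omega, hue, pow_one,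
          inv_mul_cancel_right]
    · rw [Fintype.card_fin, ← Nat.card_eq_fintype_card, hH]
  · intro a b
    show D.φ ((p.mm a b).1 % 32) * y ^ ((p.mm a b).1 / 32) = _
    rw [Par.mm_val]
    have ha := a.2
    have hb := b.2
    set u := a.1 % 32 with hu
    set v := b.1 % 32 with hv
    have hu' : u < 32 := Nat.mod_lt _ (by norm_num)
    have hv' : v < 32 := Nat.mod_lt _ (by norm_num)
    have hys : y * D.φ v = D.φ (p.sig v) * y := by rw [← hsig v hv']; group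
    have hm : ∀ w e, w < 32 → e < 2 → (w + 32 * e) % 32 = w ∧ (w + 32 * e) / 32 = e := by
      intros; omega
    obtain ⟨e, he, hae⟩ : ∃ e, e < 2 ∧ a.1 / 32 = e := ⟨_, by omega, rfl⟩
    obtain ⟨e', he', hbe⟩ : ∃ e, e < 2 ∧ b.1 / 32 = e := ⟨_, by omega, rfl⟩
    simp only [Par.mul, hae, hbe, ← hu, ← hv]
    interval_cases e <;> interval_cases e'
    · rw [if_pos rfl, if_pos rfl, (hm _ 0 (mN_lt _ _ _) (by norm_num)).1,
        (hm _ 0 (mN_lt _ _ _) (by norm_num)).2, D.φ_mul hu' hv']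
      simp
    · rw [if_pos rfl, if_pos rfl, (hm _ 1 (mN_lt _ _ _) (by norm_num)).1,
        (hm _ 1 (mN_lt _ _ _) (by norm_num)).2, D.φ_mul hu' hv']
      simp [mul_assoc]
    · rw [if_neg one_ne_zero, if_pos rfl, (hm _ 1 (mN_lt _ _ _) (by norm_num)).1,
        (hm _ 1 (mN_lt _ _ _) (by norm_num)).2, D.φ_mul hu' (p.sig_lt _)]
      simp only [pow_one, pow_zero, mul_one]
      rw [mul_assoc, mul_assoc, hys]
    · rw [if_neg one_ne_zero, if_neg (by norm_num), (hm _ 0 (mN_lt _ _ _) (by norm_num)).1,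
        (hm _ 0 (mN_lt _ _ _) (by norm_num)).2, D.φ_mul (mN_lt _ _ _) hn0,
        D.φ_mul hu' (p.sig_lt _), hn0e]
      simp only [pow_one, pow_zero, mul_one]
      rw [mul_assoc (D.φ u) y, ← mul_assoc y, hys]
      group

end Cfsg.Agent.M12Eight
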