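import Cfsg.Agent.M12Eight.Isolated
import Cfsg.Agent.M12Eight.Norm
import Cfsg.Agent.M12Type.Setup

/-!
Simple groups with a Sylow 2-subgroup of order 64 containing a self-centralizing element of order 8
that is conjugate in it to all its odd powers: the Sylow subgroup is that of the Mathieu group of
degree twelve.
-/

set_option autoImplicit false
set_option linter.style.haveILetI false
set_option linter.unusedSectionVars false

namespace Cfsg.Agent.M12Eight

open Subgroup M12Cent M12Type

theorem natCard_SM : Nat.card ↥SM = 64 := by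
  rw [Nat.card_eq_fintype_card, M12Type.card_SM]

/-- The Sylow 2-subgroup is isomorphic to that of the Mathieu group. -/
theorem sylow_type {G : Type*} [Group G] [Finite G] [IsSimpleGroup G]
    (hna : ¬ IsMulCommutative G) (P : Sylow 2 G) (hP : Nat.card (P : Subgroup G) = 64)
    (f : G) (hfP : f ∈ (P : Subgroup G)) (hf : orderOf f = 8)
    (hself : ∀ x ∈ (P : Subgroup G), x * f = f * x → x ∈ Subgroup.zpowers f)
    (hodd : ∀ k ∈ ({3, 5, 7} : Set ℕ), ∃ x ∈ (P : Subgroup G), x * f * x⁻¹ = f ^ k)
    (Q : Sylow 2 ↥Cfsg.Spor.M12) :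
    Nonempty (↥(P : Subgroup G) ≃* ↥(Q : Subgroup ↥Cfsg.Spor.M12)) := by
  classical
  obtain ⟨x, hx, hxf⟩ := hodd 7 (by simp)
  obtain ⟨w, hw, hwf⟩ := hodd 5 (by simp)
  obtain ⟨p, hp, ψ, hψ, hmul⟩ := exists_table (H := ↥(P : Subgroup G)) hP ⟨f, hfP⟩
    (by rw [Subgroup.orderOf_mk]; exact hf)
    (fun g hg => by
      obtain ⟨n, hn⟩ := mem_zpowers_iff.1 (hself g.1 g.2 (congrArg Subtype.val hg))
      exact mem_zpowers_iff.2 ⟨n, Subtype.ext (by rw [coe_zpow]; exact hn)⟩)
    (x := ⟨x, hx⟩) (w := ⟨w, hw⟩) (Subtype.ext hxf) (Subtype.ext hwf)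
  rcases hp with hp | ⟨l, hl⟩
  · exfalso
    have hc : p.cert = true := List.all_eq_true.1 others_cert p hp
    let R : Rep p P :=
      { φ := fun a => (ψ a : G)
        inj := fun a b h => hψ.1 (Subtype.ext h)
        mem := fun a => (ψ a).2
        surj := fun g hg => (hψ.2 ⟨g, hg⟩).imp fun a h => congrArg Subtype.val h
        mul := fun a b => by rw [hmul]; rfl }
    refine R.not_simple hc hna ?_
    have hmm : others.all (fun q => Nat.beq (q.mul 16 16) 0) = true := by decide +kernel
    rw [Rep.z, ← R.el_mul (by norm_num) (by norm_num),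
      Nat.eq_of_beq_eq_true (List.all_eq_true.1 hmm p hp), R.el_zero]
  · set e := Equiv.ofBijective ψ hψ
    have he : ∀ a, e.symm (ψ a) = a := e.symm_apply_apply
    let F : ↥(P : Subgroup G) →* ↥SM :=
      MonoidHom.mk' (fun g => toSM l (e.symm g)) fun g h => by
        obtain ⟨a, rfl⟩ := hψ.2 g
        obtain ⟨b, rfl⟩ := hψ.2 h
        show toSM l (e.symm (ψ a * ψ b)) = _
        rw [← hmul, he, he, he]
        exact toSM_mul (p, l) hl a b
    have hinj : Function.Injective F := (injective_iff_map_eq_one F).2 fun g hg => by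
      obtain ⟨a, rfl⟩ := hψ.2 g
      change toSM l (e.symm (ψ a)) = 1 at hg
      rw [he] at hg
      rw [toSM_inj (p, l) hl a hg]
      have h0 := hmul 0 0
      rw [show p.mm 0 0 = 0 from Fin.ext (by rw [p.mm_val]; exact p.mul_zero_zero)] at h0
      exact mul_eq_left.1 h0.symm
    have hbij : Function.Bijective F :=
      (Nat.bijective_iff_injective_and_card F).2 ⟨hinj, by rw [hP, natCard_SM]⟩
    obtain ⟨i⟩ := exists_model_sylow Q
    exact ⟨(MulEquiv.ofBijective F hbij).trans i⟩

end Cfsg.Agent.M12Eight
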