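import Cfsg.Agent.M12Type.Defs

/-!
The possible groups of order 64 with a self-centralizing cyclic subgroup of order 8 whose normalizer
induces all its automorphisms, as tables, and the finite facts used about them.
-/

set_option autoImplicit false
set_option maxRecDepth 20000
set_option maxHeartbeats 1000000

namespace Cfsg.Agent.M12Eight

open M12Cent M12Type

/-- The product in the normalizer of the cyclic subgroup; `4 * i + 2 * a + b` stands for
`f ^ i * x ^ a * w ^ b`, where `x` squares to `f ^ (4 * ep)`. -/
def mN (ep u v : ℕ) : ℕ :=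
  let a := u / 2 % 2
  let b := u % 2
  let c := v / 2 % 2
  let d := v % 2
  let e := if a = 0 then (if b = 0 then 1 else 5) else (if b = 0 then 7 else 3)
  4 * ((u / 4 + e * (v / 4) + 4 * ep * (a * c)) % 8) + 2 * ((a + c) % 2) + (b + d) % 2

/-- A power in the normalizer. -/
def pwN (ep g : ℕ) : ℕ → ℕ
  | 0 => 0
  | n + 1 => mN ep (pwN ep g n) g

/-- The parameters of an extension of degree two of the normalizer by an element `y`. -/
structure Par where
  /-- whether `x` has order four -/
  ep : ℕ
  /-- the image of `x` under `y` -/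
  sx : ℕ
  /-- the image of `w` under `y` -/
  sw : ℕ
  /-- the square of `y` -/
  n0 : ℕ

namespace Par

variable (p : Par)

/-- Conjugation by `y`, which takes `f` to `f * w`. -/
def sig (u : ℕ) : ℕ :=
  mN p.ep (pwN p.ep 5 (u / 4))
    (mN p.ep (if u / 2 % 2 = 0 then 0 else p.sx) (if u % 2 = 0 then 0 else p.sw))

/-- The product in the extension; `32 * e + n` stands for `n * y ^ e`. -/
def mul (a b : ℕ) : ℕ :=
  let e := a / 32
  let f := b / 32
  let w := mN p.ep (a % 32) (if e = 0 then b % 32 else p.sig (b % 32))
  (if e * f = 0 then w else mN p.ep w p.n0) + 32 * ((e + f) % 2)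

/-- The product on indices. -/
def mm (a b : Fin 64) : Fin 64 := ⟨p.mul a.1 b.1 % 64, Nat.mod_lt _ (by norm_num)⟩

/-- The relations that the parameters of a group satisfy. -/
def Valid : Prop :=
  mN p.ep p.sx p.sx = pwN p.ep 5 (4 * p.ep) ∧ mN p.ep p.sx 5 = mN p.ep (pwN p.ep 5 7) p.sx ∧
    mN p.ep p.sw p.sw = 0 ∧ mN p.ep p.sw 5 = mN p.ep (pwN p.ep 5 5) p.sw ∧
    mN p.ep p.sx p.sw = mN p.ep p.sw p.sx ∧ p.sig p.n0 = p.n0 ∧
    ∀ g ∈ [4, 2, 1], mN p.ep (p.sig (p.sig g)) p.n0 = mN p.ep p.n0 g

/-- The square. -/
def sq (a : ℕ) : ℕ := p.mul a a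

/-- Commuting elements. -/
def cm (a b : ℕ) : Bool := Nat.beq (p.mul a b) (p.mul b a)

/-- The order of a centralizer. -/
def ccard (u : ℕ) : ℕ := ((List.range 64).filter (p.cm u)).length

/-- An involution other than the central one with a large centralizer. -/
def big (u : ℕ) : Bool :=
  !Nat.beq u 0 && !Nat.beq u 16 && Nat.beq (p.sq u) 0 && Nat.ble 16 (p.ccard u)

/-- An element of order four. -/
def root (a : ℕ) : Bool := !Nat.beq (p.sq a) 0 && Nat.beq (p.sq (p.sq a)) 0

/-- `b` inverts `a` and its square is trivial or that of `a`. -/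
def rev (a b : ℕ) : Bool :=
  Nat.beq (p.mul (p.mul a b) a) b && (Nat.beq (p.sq b) 0 || Nat.beq (p.sq b) (p.sq a))

/-- All the squares of elements of order four are central. -/
def rootsZ : Bool := (List.range 64).all fun a => !p.root a || Nat.beq (p.sq a) 16

/-- An inverted element of order four has central square. -/
def revZ : Bool :=
  (List.range 64).all fun a => !p.root a || Nat.beq (p.sq a) 16 ||
    (List.range 64).all fun b => !p.rev a b

/-- A large centralizer contains a square root of the central involution, which is inverted if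
there are other squares. -/
def bigOK (u : ℕ) : Bool :=
  (List.range 64).any fun a => p.cm u a && Nat.beq (p.sq a) 16 &&
    (p.rootsZ || (List.range 64).any fun b => p.cm u b && p.rev a b)

/-- A small centralizer has order 8, and its elements apart from the central ones and two with
large centralizers are conjugate to the given one. -/
def smallOK (u : ℕ) : Bool :=
  Nat.beq (p.ccard u) 8 && (List.range 64).any fun q =>
    p.cm u q && p.big q && p.big (p.mul q 16) && (List.range 64).all fun x =>
      !p.cm u x || Nat.beq x 0 || Nat.beq x 16 || Nat.beq x q || Nat.beq x (p.mul q 16) ||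
        (List.range 64).any fun g => Nat.beq (p.mul g u) (p.mul x g)

/-- The certificate that the central involution is isolated. -/
def cert : Bool :=
  p.revZ && (List.range 64).all (p.cm 16) && (List.range 64).all fun u =>
    Nat.beq u 0 || Nat.beq u 16 || !Nat.beq (p.sq u) 0 ||
      (if p.big u then p.bigOK u else p.smallOK u)

end Par

/-- The images of `f`, `x`, `w`, `y` in the model of the Sylow subgroup of the Mathieu group. -/
def imgs : List (Par × List ℕ) :=
  [(⟨0, 3, 1, 0⟩, [9, 14, 48, 64]), (⟨0, 11, 17, 25⟩, [9, 77, 48, 18]),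
   (⟨0, 19, 1, 0⟩, [9, 77, 48, 64]), (⟨0, 27, 17, 25⟩, [9, 14, 48, 18])]

/-- The map to the model with the given images of the generators. -/
def toSM (l : List ℕ) (m : Fin 64) : ↥SM :=
  el (l.getD 0 0) ^ (m.1 % 32 / 4) * el (l.getD 1 0) ^ (m.1 / 2 % 2) *
    el (l.getD 2 0) ^ (m.1 % 2) * el (l.getD 3 0) ^ (m.1 / 32)

end Cfsg.Agent.M12Eight
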